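import Cfsg.Agent.Spor.C3EM.L.D0

set_option autoImplicit false
set_option maxRecDepth 100000000
set_option Elab.async false

namespace Cfsg.Agent.Spor.C3EM.L

theorem uok7 : Net.okb 7 un7 = true := by decide +kernel

theorem rel3 : U.rel 7 [15, 9, 1, 3, 1, 5, 3, 7, 1, 9, 3, 5, 1, 7, 3, 1, 3, 1, 7, 1, 5, 7, 9, 1, 5, 7, 5, 1] 0 7 = true := by decide +kernel

theorem uok8 : Net.okb 7 un8 = true := by decide +kernel

theorem rel4 : U.rel 7 [17, 1, 5, 9, 3, 9, 5, 7, 1, 5, 1, 9, 1, 5, 1, 7, 3, 5, 3, 5, 7, 5, 3, 1, 3, 5, 1, 3, 7, 5, 1] 0 7 = true := by decide +kernel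

theorem gr6 : sub M5 (U.growI W1 [0, 1, 2, 3, 4, 3, 2, 1, 0, 1] (Nat.shiftLeft 1 0)) = true := by decide +kernel

theorem cl8 : band (U.closedW W1 M5) (sub (Nat.shiftLeft 1 0) M5) = true := by decide +kernel

theorem sz9 : sizeOk 7 M5 128 = true := by decide +kernel

theorem fx12 : U.closedW W11 (Nat.shiftLeft 1 0) = true := by decide +kernel

theorem uok9 : Net.okb 7 un9 = true := by decide +kernel

theorem rel13 : U.rel 7 [19, 17, 15, 15, 17, 15, 17, 15, 15, 17, 15, 15, 15] 0 7 = true := by decide +kernel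

theorem uok10 : Net.okb 7 un10 = true := by decide +kernel

theorem rel14 : U.rel 7 [21, 17, 15, 17, 15, 15, 15, 15, 15, 17, 17, 15, 17] 0 7 = true := by decide +kernel

theorem gr16 : sub M15 (U.growI W11 [0, 1, 1, 0, 0, 1, 1, 0, 0, 1, 1, 0] (Nat.shiftLeft 1 3)) = true := by decide +kernel

theorem cl18 : band (U.closedW W11 M15) (sub (Nat.shiftLeft 1 3) M15) = true := by decide +kernel

theorem sz19 : sizeOk 7 M15 70 = true := by decide +kernel

theorem fx22 : U.closedW W21 (Nat.shiftLeft 1 3) = true := by decide +kernel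

theorem gr24 : sub M23 (U.growI W21 [0, 1, 1, 0, 0, 1, 1, 0, 0] (Nat.shiftLeft 1 4)) = true := by decide +kernel

theorem cl26 : band (U.closedW W21 M23) (sub (Nat.shiftLeft 1 4) M23) = true := by decide +kernel

theorem sz27 : sizeOk 7 M23 36 = true := by decide +kernel

end Cfsg.Agent.Spor.C3EM.L
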