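import Cfsg.Agent.Spor.Prim
import Cfsg.Agent.Spor.C3EM.Main
import Cfsg.Agent.Spor.C3EM.L.C0
import Cfsg.Agent.Spor.TT2

set_option autoImplicit false
set_option maxRecDepth 100000000
set_option Elab.async false

namespace Cfsg.Agent.Spor.C3EM.L

theorem hU : U.Ok 7 := U.ok_of 7 (show AllP (fun n => Net.okb 7 n = true) [n0, n1, n2, n3, n4, n5, n6, un7, un8, un9, un10] from AllP.cons ok0 (AllP.cons ok1 (AllP.cons ok2 (AllP.cons ok3 (AllP.cons ok4 (AllP.cons ok5 (AllP.cons ok6 (AllP.cons uok7 (AllP.cons uok8 (AllP.cons uok9 (AllP.cons uok10 (AllP.nil))))))))))))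

theorem hfP : ∀ j < 5, U.fP [1, 3, 5, 7, 9] j = fP j := by
  intro j hj
  interval_cases j <;> rfl
theorem eG : gsub 5 fP = U.lsub W1 := (gsub_congr hfP).symm.trans (lsub_eq_gsub U [1, 3, 5, 7, 9])
theorem upz1 : ev (atm 5 fP) [0] = U.τ 1 := pz1
theorem upz3 : ev (atm 5 fP) [2] = U.τ 3 := pz2
theorem upz5 : ev (atm 5 fP) [4] = U.τ 5 := pz3
theorem upz7 : ev (atm 5 fP) [6] = U.τ 7 := pz4
theorem upz9 : ev (atm 5 fP) [8] = U.τ 9 := pz5
theorem upz11 : ev (atm 5 fP) [0, 6, 0] = U.τ 11 := pz6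
theorem upz13 : ev (atm 5 fP) [8, 6, 0, 6, 2] = U.τ 13 := pz8
theorem eH : wsub 5 fP BW = U.lsub W2 :=
  lsub_eq_of_all₂ (show List.Forall₂ _ [[4], [6], [0, 6, 0], [8, 6, 0, 6, 2]] [[5], [7], [11], [13]] from List.Forall₂.cons (upz5.trans (one_mul _).symm) (List.Forall₂.cons (upz7.trans (one_mul _).symm) (List.Forall₂.cons (upz11.trans (one_mul _).symm) (List.Forall₂.cons (upz13.trans (one_mul _).symm) (List.Forall₂.nil)))))
theorem vpz1 : PZ U (atm 5 fP) EXU 1 := pz1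
theorem vpz2 : PZ U (atm 5 fP) EXU 2 := PZ.of_inv hiv vpz1 (by decide +kernel)
theorem vpz3 : PZ U (atm 5 fP) EXU 3 := pz2
theorem vpz4 : PZ U (atm 5 fP) EXU 4 := PZ.of_inv hiv vpz3 (by decide +kernel)
theorem vpz5 : PZ U (atm 5 fP) EXU 5 := pz3
theorem vpz6 : PZ U (atm 5 fP) EXU 6 := PZ.of_inv hiv vpz5 (by decide +kernel)
theorem vpz7 : PZ U (atm 5 fP) EXU 7 := pz4
theorem vpz8 : PZ U (atm 5 fP) EXU 8 := PZ.of_inv hiv vpz7 (by decide +kernel)
theorem vpz9 : PZ U (atm 5 fP) EXU 9 := pz5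
theorem vpz10 : PZ U (atm 5 fP) EXU 10 := PZ.of_inv hiv vpz9 (by decide +kernel)
theorem vpz11 : PZ U (atm 5 fP) EXU 11 := pz6
theorem vpz12 : PZ U (atm 5 fP) EXU 12 := PZ.of_inv hiv vpz11 (by decide +kernel)
theorem vpz13 : PZ U (atm 5 fP) EXU 13 := pz8
theorem vpz14 : PZ U (atm 5 fP) EXU 14 := PZ.of_inv hiv vpz13 (by decide +kernel)
theorem hPZU : AllP (PZ U (atm 5 fP) EXU) LU :=
  show AllP (PZ U (atm 5 fP) EXU) [1, 2, 3, 4, 5, 6, 7, 8, 9, 10, 11, 12, 13, 14] from AllP.cons vpz1 (AllP.cons vpz2 (AllP.cons vpz3 (AllP.cons vpz4 (AllP.cons vpz5 (AllP.cons vpz6 (AllP.cons vpz7 (AllP.cons vpz8 (AllP.cons vpz9 (AllP.cons vpz10 (AllP.cons vpz11 (AllP.cons vpz12 (AllP.cons vpz13 (AllP.cons vpz14 (AllP.nil))))))))))))))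
theorem reach7 : Reach (U.lsub W1) 0 M5 := (Reach.grow hU (Reach.base _ 0) gr6)
theorem orb10 : (orbS (U.lsub W1) 0).ncard = 128 := reach7.ncard hU cl8 sz9
theorem orb10e : orbS (U.lsub W1) 0 = {c | Nat.testBit M5 c = true} := reach7.orb hU cl8
theorem reach17 : Reach (U.lsub W11) 3 M15 := (Reach.grow hU (Reach.base _ 3) gr16)
theorem orb20 : (orbS (U.lsub W11) 3).ncard = 70 := reach17.ncard hU cl18 sz19
theorem orb20e : orbS (U.lsub W11) 3 = {c | Nat.testBit M15 c = true} := reach17.orb hU cl18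
theorem reach25 : Reach (U.lsub W21) 4 M23 := (Reach.grow hU (Reach.base _ 4) gr24)
theorem orb28 : (orbS (U.lsub W21) 4).ncard = 36 := reach25.ncard hU cl26 sz27
theorem orb28e : orbS (U.lsub W21) 4 = {c | Nat.testBit M23 c = true} := reach25.orb hU cl26
theorem lb29 : 36 ∣ Nat.card (U.lsub W21) := dvd_card_orb orb28
theorem lb30 : 2520 ∣ Nat.card (U.lsub W11) :=
  dvd_card_step (s := 70) (M := 36) (B := U.lsub W21) (Tab.lsub_le_all (AllP.cons (mem_of_rel (hU.one rel13) (U.mem_letters (by decide))) (AllP.cons (mem_of_rel (hU.one rel14) (U.mem_letters (by decide))) (AllP.nil)))) (hU.fixes fx22) orb20 lb29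
theorem lb : 322560 ∣ Nat.card (U.lsub W1) :=
  dvd_card_step (s := 128) (M := 2520) (B := U.lsub W11) (Tab.lsub_le_all (AllP.cons (mem_of_rel (hU.one rel3) (U.mem_letters (by decide))) (AllP.cons (mem_of_rel (hU.one rel4) (U.mem_letters (by decide))) (AllP.nil)))) (hU.fixes fx12) orb10 lb30
theorem lbP : 322560 ∣ Nat.card (gsub 5 fP) := by rw [eG]; exact lb

end Cfsg.Agent.Spor.C3EM.L
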