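import Cfsg.Agent.Spor.Chk2
import Cfsg.Agent.Spor.C3EM.D0

set_option autoImplicit false
set_option maxRecDepth 100000000
set_option Elab.async false
noncomputable section

namespace Cfsg.Agent.Spor.C3EM.L

def W1 : List (List Nat) := [[1], [3], [5], [7], [9]]

def W2 : List (List Nat) := [[5], [7], [11], [13]]

def EXU : List (List Nat) := [[], [0], [0], [2], [2], [4], [4], [6], [6], [8], [8], [0, 6, 0], [0, 6, 0], [8, 6, 0, 6, 2], [2, 6, 0, 6, 8]]
def LU : List Nat := [1, 2, 3, 4, 5, 6, 7, 8, 9, 10, 11, 12, 13, 14]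

def um7_0 : Nat := nat_lit 0xfa69f44003107387
def um7_1 : Nat := nat_lit 0xc203b0c300000000cca80682
def um7_2 : Nat := nat_lit 0x40d2000072260000640500007c22
def um7_3 : Nat := nat_lit 0xf000820030003d0022002a001300e0
def um7_4 : Nat := nat_lit 0xd00080e000702060c040106010001
def um7_5 : Nat := nat_lit 0x21122130130111000210301212121201
def um7_6 : Nat := nat_lit 0x14041154141414414150110440441505
def um7_7 : Nat := nat_lit 0x1100000110121000020110010000
def um7_8 : Nat := nat_lit 0x4000100020a0409040500030200090c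
def um7_9 : Nat := nat_lit 0x6a0042006f0008003b008000c80081
def um7_10 : Nat := nat_lit 0x654000088e200008ed500003581
def um7_11 : Nat := nat_lit 0x98745499000000002b599143
def um7_12 : Nat := nat_lit 0x45d33020c9ce43c3
def un7 : Net := Net.cons 64 um7_0 (Net.cons 32 um7_1 (Net.cons 16 um7_2 (Net.cons 8 um7_3 (Net.cons 4 um7_4 (Net.cons 2 um7_5 (Net.cons 1 um7_6 (Net.cons 2 um7_7 (Net.cons 4 um7_8 (Net.cons 8 um7_9 (Net.cons 16 um7_10 (Net.cons 32 um7_11 (Net.cons 64 um7_12 (Net.nil)))))))))))))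

def um8_0 : Nat := nat_lit 0xb8964b35a3863008
def um8_1 : Nat := nat_lit 0xe020340000000032093d9d
def um8_2 : Nat := nat_lit 0x21210000217400001ece00002740
def um8_3 : Nat := nat_lit 0xdc000300590080007800a8004100ea
def um8_4 : Nat := nat_lit 0x70c0302090a080500090a050006010d
def um8_5 : Nat := nat_lit 0x3220101221010010211010302200102
def um8_6 : Nat := nat_lit 0x14451441011441141015400445101444
def um8_7 : Nat := nat_lit 0x20001101010112201000200020002121
def um8_8 : Nat := nat_lit 0x10004020201010200030309030202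
def um8_9 : Nat := nat_lit 0x1000b60044007900a200a600790032
def um8_10 : Nat := nat_lit 0x8a8b00000aa500008c300000149a
def um8_11 : Nat := nat_lit 0x92d0597c0000000017069c0d
def um8_12 : Nat := nat_lit 0x4c86faaa7125c152
def un8 : Net := Net.cons 64 um8_0 (Net.cons 32 um8_1 (Net.cons 16 um8_2 (Net.cons 8 um8_3 (Net.cons 4 um8_4 (Net.cons 2 um8_5 (Net.cons 1 um8_6 (Net.cons 2 um8_7 (Net.cons 4 um8_8 (Net.cons 8 um8_9 (Net.cons 16 um8_10 (Net.cons 32 um8_11 (Net.cons 64 um8_12 (Net.nil)))))))))))))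

def M5 : Nat := nat_lit 0xffffffffffffffffffffffffffffffff

def W11 : List (List Nat) := [[15], [17]]

def um9_0 : Nat := nat_lit 0x1969e5c504a2fd66
def um9_1 : Nat := nat_lit 0x5720b912000000009e3a2454
def um9_2 : Nat := nat_lit 0x16eb0000649b0000a94700000093
def um9_3 : Nat := nat_lit 0x8a00ce00250006004f0088001400c8
def um9_4 : Nat := nat_lit 0xc0a020e0702060802040a0c0c040609
def um9_5 : Nat := nat_lit 0x10310231102132120222310221002010
def um9_6 : Nat := nat_lit 0x45104111444154441510041054141101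
def um9_7 : Nat := nat_lit 0x1001101100112000000000001000
def um9_8 : Nat := nat_lit 0x8020804000001080002020204060002
def um9_9 : Nat := nat_lit 0xe0006006500cc00440057008e0009
def um9_10 : Nat := nat_lit 0x450100002ba100002808000082e3
def um9_11 : Nat := nat_lit 0xe8842d510000000005a4b046
def um9_12 : Nat := nat_lit 0x2979cf6054507244
def un9 : Net := Net.cons 64 um9_0 (Net.cons 32 um9_1 (Net.cons 16 um9_2 (Net.cons 8 um9_3 (Net.cons 4 um9_4 (Net.cons 2 um9_5 (Net.cons 1 um9_6 (Net.cons 2 um9_7 (Net.cons 4 um9_8 (Net.cons 8 um9_9 (Net.cons 16 um9_10 (Net.cons 32 um9_11 (Net.cons 64 um9_12 (Net.nil)))))))))))))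

def um10_0 : Nat := nat_lit 0xb0643c0b5a7aab05
def um10_1 : Nat := nat_lit 0x78cce04a0000000048ab9eb0
def um10_2 : Nat := nat_lit 0x24100000899900008f3400000423
def um10_3 : Nat := nat_lit 0x42009a0091002500100037003700c5
def um10_4 : Nat := nat_lit 0x8040806020a0205010e04000c000201
def um10_5 : Nat := nat_lit 0x10221031110031013321003003203010
def um10_6 : Nat := nat_lit 0x50044010411444515411400501411411
def um10_7 : Nat := nat_lit 0x10101010010100000100201
def um10_8 : Nat := nat_lit 0x5040002020201000204010400060103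
def um10_9 : Nat := nat_lit 0x9e00800053002d0029002a000800a1
def um10_10 : Nat := nat_lit 0x21300000003700000d2f00007291
def um10_11 : Nat := nat_lit 0x833416f400000000bc748195
def um10_12 : Nat := nat_lit 0x67cc021c92c0ff83
def un10 : Net := Net.cons 64 um10_0 (Net.cons 32 um10_1 (Net.cons 16 um10_2 (Net.cons 8 um10_3 (Net.cons 4 um10_4 (Net.cons 2 um10_5 (Net.cons 1 um10_6 (Net.cons 2 um10_7 (Net.cons 4 um10_8 (Net.cons 8 um10_9 (Net.cons 16 um10_10 (Net.cons 32 um10_11 (Net.cons 64 um10_12 (Net.nil)))))))))))))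

def M15 : Nat := nat_lit 0x8fbfb348d9d6f8b18dd8e3e05c47bc98

def W21 : List (List Nat) := [[19], [21]]

def M23 : Nat := nat_lit 0x2308208c090782089d8636014069090

def U : Tab := ⟨[n0, n1, n2, n3, n4, n5, n6, un7, un8, un9, un10], [⟨0, false, 0, 0, []⟩, ⟨0, false, 0, 0, []⟩, ⟨0, true, 0, 0, []⟩, ⟨1, false, 0, 0, []⟩, ⟨1, true, 0, 0, []⟩, ⟨2, false, 0, 0, []⟩, ⟨2, true, 0, 0, []⟩, ⟨3, false, 0, 0, []⟩, ⟨3, true, 0, 0, []⟩, ⟨4, false, 0, 0, []⟩, ⟨4, true, 0, 0, []⟩, ⟨5, false, 0, 0, []⟩, ⟨5, true, 0, 0, []⟩, ⟨6, false, 0, 0, []⟩, ⟨6, true, 0, 0, []⟩, ⟨7, false, 0, 0, []⟩, ⟨7, true, 0, 0, []⟩, ⟨8, false, 0, 0, []⟩, ⟨8, true, 0, 0, []⟩, ⟨9, false, 0, 0, []⟩, ⟨9, true, 0, 0, []⟩, ⟨10, false, 0, 0, []⟩, ⟨10, true, 0, 0, []⟩]⟩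

end Cfsg.Agent.Spor.C3EM.L
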